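import Groth.Agent.VBCurve.K553.SubChow2
import Groth.Agent.VBCurve.K569.SubInv
import Groth.Agent.Cyc.K307.Whitney
import Groth.Agent.Cyc.K308.Dual
import Groth.Agent.Cyc.K308.C1Tensor
import Groth.Agent.Krr.H463.DualLam

/-!
# SUB-WHIT: total Chern classes of duals in short exact sequences; `ell`
-/

set_option autoImplicit false
set_option linter.unusedSectionVars false
universe u v
open CategoryTheory CategoryTheory.Limits AlgebraicGeometry

namespace Groth.Agent.VBCurve.K826.SubWhit

open K308.Grp K307 Cyc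

section gen

variable {X : Scheme.{u}} {δ : X → ℤ} {r s : ℕ}

/-- A sum over a rectangle as a sum over antidiagonals. -/
theorem sum_rect {A : Type*} [AddCommGroup A] (f : ℕ → ℕ → A) (r s : ℕ) (h1 : ∀ i j, r < i → f i j = 0)
    (h2 : ∀ i j, s < j → f i j = 0) :
    ∑ i ∈ Finset.range (r + 1), ∑ j ∈ Finset.range (s + 1), f i j =
      ∑ n ∈ Finset.range (r + s + 1), ∑ p ∈ Finset.antidiagonal n, f p.1 p.2 := by
  rw [← Finset.sum_product']
  rw [← Finset.sum_fiberwise_of_maps_to (s := Finset.range (r + 1) ×ˢ Finset.range (s + 1))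
    (t := Finset.range (r + s + 1)) (g := fun p => p.1 + p.2)]
  · refine Finset.sum_congr rfl fun n _ => ?_
    refine Finset.sum_subset ?_ ?_
    · intro p hp
      rw [Finset.mem_filter] at hp
      exact Finset.mem_antidiagonal.2 hp.2
    · intro p hp hp'
      rw [Finset.mem_antidiagonal] at hp
      rw [Finset.mem_filter, Finset.mem_product, Finset.mem_range, Finset.mem_range] at hp'
      by_cases h : r < p.1
      · exact h1 _ _ h
      · refine h2 _ _ ?_
        by_contra h'
        exact hp' ⟨⟨by omega, by omega⟩, hp⟩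
  · intro p hp
    rw [Finset.mem_product, Finset.mem_range, Finset.mem_range] at hp
    rw [Finset.mem_range]
    omega

/-- The total Chern operator. -/
noncomputable def tot (hX : IsSetup X δ) {E : X.Modules} (hE : FlatMod.IsFinLocFreeOfRank r E) :
    AddMonoid.End (G X δ) := ∑ j ∈ Finset.range (r + 1), chE hX hE j

theorem tot_apply (hX : IsSetup X δ) {E : X.Modules} (hE : FlatMod.IsFinLocFreeOfRank r E) (a : G X δ) :
    tot hX hE a = ∑ j ∈ Finset.range (r + 1), chE hX hE j a :=
  AddMonoidHom.finsetSum_apply _ _ _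

theorem tot_whitney (hX : IsSetup X δ) {E₁ E E₂ : X.Modules}
    (h₁ : FlatMod.IsFinLocFreeOfRank r E₁) (h : FlatMod.IsFinLocFreeOfRank (r + s) E)
    (h₂ : FlatMod.IsFinLocFreeOfRank s E₂) (a : E₁ ⟶ E) (b : E ⟶ E₂) (hab : a ≫ b = 0)
    (hex : (ShortComplex.mk a b hab).ShortExact) : tot hX h = tot hX h₁ * tot hX h₂ := by
  refine end_ext fun x => ?_
  rw [K308.Grp.end_mul_apply, tot_apply, tot_apply, tot_apply]
  simp only [map_sum]
  rw [Finset.sum_congr rfl fun j _ => chE_whitney hX h₁ h h₂ a b hab hex j x]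
  exact (sum_rect (fun i j => chE hX h₁ i (chE hX h₂ j x)) r s
    (fun i j hi => by rw [chE_eq_zero (hX := hX) (hE := h₁) hi]; rfl)
    (fun i j hj => by rw [chE_eq_zero (hX := hX) (hE := h₂) hj]; exact map_zero _)).symm

theorem tot_one (hX : IsSetup X δ) {L : X.Modules} (hL : FlatMod.IsFinLocFreeOfRank 1 L)
    (hL' : PicF.IsInvertible L) : tot hX hL = 1 + C1 δ L := by
  unfold tot
  rw [Finset.sum_range_succ, Finset.sum_range_one, chE_zero, chE_one hX hL hL', C1_eq hX hL']

theorem C1_dl (hX : IsSetup X δ) {L : X.Modules} (hL : PicF.IsInvertible L) : C1 δ (dl L) = -C1 δ L :=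
  have := Groth.Agent.Grpsch.PicGrp.isIso_ev hL
  C1_of_tensor_iso hX hL (isInvertible_dl hL) (asIso (Groth.Agent.Grpsch.PicGrp.ev L))

theorem ec_of_C1_zero (δ : X → ℤ) (Ls : List X.Modules) (h : ∀ L ∈ Ls, C1 δ L = 0) (j : ℕ) :
    ec δ Ls (j + 1) = 0 := by
  induction Ls generalizing j with
  | nil => exact ec_nil_succ δ j
  | cons L Ls ih =>
    rw [ec_cons_succ, ih (fun M hM => h M (List.mem_cons_of_mem _ hM)), h L List.mem_cons_self]
    simp

/-- The free modules form split short exact sequences. -/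
theorem shortExact_free {A : Type*} [Category A] [Abelian A] [HasCoproducts.{0} A] (O : A) (m : ℕ) :
    ∃ (f : (∐ fun _ : Fin m => O) ⟶ ∐ fun _ : Fin (m + 1) => O) (g : (∐ fun _ : Fin (m + 1) => O) ⟶ O)
      (w : f ≫ g = 0), (ShortComplex.mk f g w).ShortExact := by
  let f : (∐ fun _ : Fin m => O) ⟶ ∐ fun _ : Fin (m + 1) => O :=
    Sigma.desc fun i => Sigma.ι (fun _ : Fin (m + 1) => O) i.succ
  let g : (∐ fun _ : Fin (m + 1) => O) ⟶ O :=
    Sigma.desc fun i => Fin.cases (motive := fun _ => O ⟶ O) (𝟙 O) (fun _ => 0) i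
  let r : (∐ fun _ : Fin (m + 1) => O) ⟶ ∐ fun _ : Fin m => O :=
    Sigma.desc fun i => Fin.cases (motive := fun _ => O ⟶ ∐ fun _ : Fin m => O) 0
      (fun j => Sigma.ι (fun _ : Fin m => O) j) i
  let s : O ⟶ ∐ fun _ : Fin (m + 1) => O := Sigma.ι (fun _ : Fin (m + 1) => O) 0
  have w : f ≫ g = 0 := by
    refine Sigma.hom_ext _ _ fun i => ?_
    simp [f, g]
  refine ⟨f, g, w, ?_⟩
  refine ShortComplex.Splitting.shortExact ⟨r, s, ?_, ?_, ?_⟩
  · refine Sigma.hom_ext _ _ fun i => ?_
    simp [f, r]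
  · simp [s, g]
  · refine Sigma.hom_ext _ _ fun i => ?_
    refine Fin.cases ?_ (fun j => ?_) i
    · simp [f, g, r, s]
    · simp [f, g, r, s]

theorem SF_free (X : Scheme.{u}) (m : ℕ) :
    SF (List.replicate m (Coh.structureModule X)) (∐ fun _ : Fin m => Coh.structureModule X) := by
  induction m with
  | zero =>
    rw [List.replicate_zero]
    change IsZero _
    rw [IsZero.iff_id_eq_zero]
    exact Sigma.hom_ext _ _ fun i => i.elim0
  | succ m ih =>
    obtain ⟨f, g, w, h⟩ := shortExact_free (Coh.structureModule X) m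
    exact ⟨_, f, g, w, h, ih⟩

theorem isFinLocFreeOfRank_freeMod (Y : Scheme.{u}) (N : ℕ) :
    FlatMod.IsFinLocFreeOfRank N (∐ fun _ : Fin N => Coh.structureModule Y) := by
  intro x
  exact ⟨⊤, trivial, ⟨(Scheme.Modules.restrictFunctorIsoPullback (⊤ : Y.Opens).ι).app _ ≪≫
    Groth.Agent.PerfB.FlatPull.pullbackFreeMod _ N⟩⟩

theorem dl_free (hX : IsSetup X δ) {m : ℕ} {E : X.Modules}
    (e : (∐ fun _ : Fin m => Coh.structureModule X) ≅ E) (hE : FlatMod.IsFinLocFreeOfRank m E)
    (hE' : FlatMod.IsFinLocFreeOfRank m (dl E)) (j : ℕ) : chE hX hE' (j + 1) = 0 := by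
  have h1 := SF.dual ((SF_free X m).iso e)
    (fun L hL => by rw [List.eq_of_mem_replicate hL]; exact isInvertible_structureModule X) hE
    List.length_replicate
  have h2 : ∀ L ∈ (List.replicate m (Coh.structureModule X)).map dl, PicF.IsInvertible L := by
    intro L hL
    rw [List.map_replicate] at hL
    rw [List.eq_of_mem_replicate hL]
    exact isInvertible_dl (isInvertible_structureModule X)
  rw [chE_eq_ec hX hE' h2 h1 (by rw [List.length_map, List.length_replicate])]
  refine ec_of_C1_zero δ _ (fun L hL => ?_) j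
  rw [List.map_replicate] at hL
  rw [List.eq_of_mem_replicate hL, C1_dl hX (isInvertible_structureModule X), C1_structure hX, neg_zero]

end gen

theorem totc_eq {k : Type u} [Field k] {T : Over (Spec (CommRingCat.of k))} [LocallyOfFiniteType T.hom] [Nonempty T.left] {r : ℕ}
    {E : T.left.Modules} (hE : FlatMod.IsFinLocFreeOfRank r E) : K553.Sub.totc E = tot (K553.Sub.dlt_setup T) hE := by
  have h : ∃ r : ℕ, FlatMod.IsFinLocFreeOfRank r E := ⟨r, hE⟩
  unfold K553.Sub.totc tot
  rw [dif_pos h]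
  have key : ∀ (r' : ℕ) (h' : FlatMod.IsFinLocFreeOfRank r' E),
      ∑ j ∈ Finset.range (r' + 1), K307.chE (K553.Sub.dlt_setup T) h' j =
        ∑ j ∈ Finset.range (r + 1), K307.chE (K553.Sub.dlt_setup T) hE j := by
    intro r' h'
    obtain rfl := Groth.Agent.Krr.H487.KerRank.rank_unique h' hE
    rfl
  exact key _ h.choose_spec

end Groth.Agent.VBCurve.K826.SubWhit

namespace K553.Sub

open K308.Grp K307 Groth.Agent.VBCurve.K826.SubWhit

variable {k : Type u} [Field k] [IsAlgClosed k] (C : Over (Spec (CommRingCat.of k)))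
  [IsIntegral C.left] [IsProper C.hom] [Smooth C.hom] (hdim : topologicalKrullDim C.left = 1)

section whit

variable {T : Over (Spec (CommRingCat.of k))} [IsProper T.hom] [IsIntegral T.left]

theorem totc_step {r : ℕ} {K' K M : T.left.Modules} (hK' : FlatMod.IsFinLocFreeOfRank r K')
    (hK : FlatMod.IsFinLocFreeOfRank (r + 1) K) (hM : PicF.IsInvertible M) (i : K' ⟶ K) (p : K ⟶ M)
    (w : i ≫ p = 0) (hS : (ShortComplex.mk i p w).ShortExact) :
    (1 - K308.Grp.C1 (dlt T) M) * totc (K308.Grp.dl K') = totc (K308.Grp.dl K) := by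
  have hM1 : FlatMod.IsFinLocFreeOfRank 1 M := Groth.Agent.Ega2.QCohLocal.isFinLocFreeOfRank_one_iff.2 hM
  have h2 := Groth.Agent.Sga2.PnHomExact.shortExact_homSC hS
    (Groth.Agent.Ega2.QCohLocal.isQCoh_of_isFinLocFree
      (Groth.Agent.Ega2.QCohLocal.isFinLocFree_of_rank hK'))
    (Groth.Agent.Ega2.QCohLocal.isQCoh_of_isFinLocFree
      (Groth.Agent.Ega2.QCohLocal.isFinLocFree_of_rank hK))
    (Groth.Agent.Ega2.QCohLocal.isFinLocFree_of_rank hM1) (Coh.structureModule T.left)
  have hdM : PicF.IsInvertible (dl M) := isInvertible_dl hM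
  have hdM1 : FlatMod.IsFinLocFreeOfRank 1 (dl M) :=
    Groth.Agent.Ega2.QCohLocal.isFinLocFreeOfRank_one_iff.2 hdM
  have hdK : FlatMod.IsFinLocFreeOfRank (1 + r) (dl K) := by
    rw [add_comm]
    exact Groth.Agent.Krr.H463.DualLam.isFinLocFreeOfRank_homSheaf hK
  have hdK' : FlatMod.IsFinLocFreeOfRank r (dl K') := Groth.Agent.Krr.H463.DualLam.isFinLocFreeOfRank_homSheaf hK'
  rw [totc_eq hdK', totc_eq hdK, tot_whitney (dlt_setup T) hdM1 hdK hdK' _ _ _ h2, tot_one (dlt_setup T) hdM1 hdM,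
    C1_dl (dlt_setup T) hM, sub_eq_add_neg]

theorem totc_free {m : ℕ} {E : T.left.Modules} (e : (∐ fun _ : Fin m => Coh.structureModule T.left) ≅ E) :
    totc (K308.Grp.dl E) = 1 := by
  have hE : FlatMod.IsFinLocFreeOfRank m E := Groth.Agent.Krr.H463.DualLam.isFinLocFreeOfRank_of_iso e
    (isFinLocFreeOfRank_freeMod T.left m)
  have hE' : FlatMod.IsFinLocFreeOfRank m (dl E) := Groth.Agent.Krr.H463.DualLam.isFinLocFreeOfRank_homSheaf hE
  rw [totc_eq hE']
  unfold tot
  rw [Finset.sum_range_succ', chE_zero, Finset.sum_eq_zero fun j _ => dl_free (dlt_setup T) e hE hE' j, zero_add]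

include hdim in
theorem ell_eq (N : C.left.Modules) (hN : PicF.IsInvertible N) (l : List (T ⟶ C)) (y : T ⟶ C) :
    ell N l y = - cN N y + (l.map fun z => cD z y).sum := by
  induction l with
  | nil => rw [List.map_nil, List.sum_nil, add_zero]; rfl
  | cons z l ih =>
    have h : ell N (z :: l) y = cD z y + ell N l y := by
      change - K308.Grp.C1 (dlt T) (CohB1.tensorMod (D z y) (tw N l y)) = _
      rw [C1_tensor (dlt_setup T) (K553.Sub.isInvertible_D C hdim z y)
        (K553.Sub.isInvertible_tw C hdim N hN l y), neg_add]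
      rfl
    rw [h, ih, List.map_cons, List.sum_cons]
    abel

end whit

end K553.Sub
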